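import Mathlib.LinearAlgebra.Eigenspace.Basic
import Mathlib.RingTheory.Noetherian.Basic

/-!
Simultaneous diagonalisation over a subfield.
-/

open Module

namespace Groth.Agent.H21Mad

variable {k R V : Type*} [Field k] [CommRing R] [Algebra k R] [AddCommGroup V] [Module R V] [Module k V]
  [IsScalarTower k R V]

/-- the eigenspace for a scalar of `k`, as an `R`-submodule -/
def eig (f : Module.End R V) (μ : k) : Submodule R V := LinearMap.ker (f - algebraMap k R μ • LinearMap.id)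

theorem mem_eig {f : Module.End R V} {μ : k} {v : V} : v ∈ eig f μ ↔ f v = μ • v := by
  simp [eig, sub_eq_zero]

theorem mem_eigenspace_iff' {f : Module.End R V} {μ : k} {v : V} :
    v ∈ Module.End.eigenspace (f.restrictScalars k) μ ↔ v ∈ eig f μ := by
  rw [Module.End.mem_eigenspace_iff, mem_eig]; rfl

theorem mem_of_sum_mem {f : Module.End R V} {A : Submodule R V} (hA : ∀ w ∈ A, f w ∈ A) :
    ∀ (s : Finset k) (c : k → V), (∀ μ ∈ s, c μ ∈ eig f μ) → ∑ μ ∈ s, c μ ∈ A → ∀ μ ∈ s, c μ ∈ A := by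
  classical
  intro s
  induction s using Finset.induction with
  | empty => simp
  | @insert a s ha ih =>
    intro c hc hsum μ hμ
    have hkA : ∀ (t : k) (w : V), w ∈ A → t • w ∈ A := fun t w hw => by
      rw [← algebraMap_smul R t w]; exact A.smul_mem _ hw
    have h1 : ∑ ν ∈ s, (ν - a) • c ν ∈ A := by
      have := sub_mem (hA _ hsum) (hkA a _ hsum)
      rw [map_sum, Finset.smul_sum, ← Finset.sum_sub_distrib, Finset.sum_insert ha,
        mem_eig.mp (hc a (Finset.mem_insert_self a s)), sub_self, zero_add] at this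
      convert this using 1
      exact Finset.sum_congr rfl fun ν hν => by rw [mem_eig.mp (hc ν (Finset.mem_insert_of_mem hν)), sub_smul]
    have h2 := ih (fun ν => (ν - a) • c ν) (fun ν hν => by
      rw [← algebraMap_smul R]; exact (eig f ν).smul_mem _ (hc ν (Finset.mem_insert_of_mem hν))) h1
    have h3 : ∀ ν ∈ s, c ν ∈ A := fun ν hν => by
      have hne : ν - a ≠ 0 := sub_ne_zero.mpr fun e => ha (e ▸ hν)
      have := hkA (ν - a)⁻¹ _ (h2 ν hν)
      rwa [smul_smul, inv_mul_cancel₀ hne, one_smul] at this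
    rcases Finset.mem_insert.mp hμ with rfl | hμ
    · rw [Finset.sum_insert ha] at hsum
      have := sub_mem hsum (sum_mem h3)
      rwa [add_sub_cancel_right] at this
    · exact h3 μ hμ

theorem le_iSup_eig (f : Module.End R V) (hf : ⨆ μ : k, Module.End.eigenspace (f.restrictScalars k) μ = ⊤)
    {A : Submodule R V} (hA : ∀ w ∈ A, f w ∈ A) : A ≤ ⨆ μ : k, A ⊓ eig f μ := by
  classical
  intro v hv
  obtain ⟨c, hc⟩ := (Submodule.mem_iSup_iff_exists_finsupp _ v).mp (hf ▸ Submodule.mem_top (R := k) (x := v))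
  obtain ⟨hc1, rfl⟩ := hc
  have hcE : ∀ μ ∈ c.support, c μ ∈ eig f μ := fun μ _ => mem_eigenspace_iff'.mp (hc1 μ)
  have hmem := mem_of_sum_mem hA c.support c hcE hv
  exact sum_mem fun μ hμ => Submodule.mem_iSup_of_mem μ ⟨hmem μ hμ, hcE μ hμ⟩

theorem disjoint_eig (f : Module.End R V) (μ : k) : Disjoint (eig f μ) (⨆ (ν) (_ : ν ≠ μ), eig f ν) := by
  have hind := (Module.End.eigenspaces_iSupIndep (f.restrictScalars k)) μ
  have heq : ∀ ν, (eig f ν).restrictScalars k = Module.End.eigenspace (f.restrictScalars k) ν := fun ν =>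
    Submodule.ext fun v => mem_eigenspace_iff'.symm
  rw [Submodule.disjoint_def] at hind ⊢
  intro v hv hv'
  refine hind v (mem_eigenspace_iff'.mpr hv) ?_
  have h2 : v ∈ (⨆ (ν) (_ : ν ≠ μ), eig f ν).restrictScalars k := hv'
  simpa only [Submodule.restrictScalars_iSup, heq] using h2

/-- pairwise commuting diagonalisable endomorphisms of a locally finite module over a Noetherian ring -/
theorem iSup_iInf_eq_top [IsNoetherianRing R] {ι : Type*} (f : ι → Module.End R V)
    (hcomm : ∀ i j, Commute (f i) (f j))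
    (hdiag : ∀ i, ⨆ μ : k, Module.End.eigenspace ((f i).restrictScalars k) μ = ⊤)
    (hfin : ∀ v : V, ∃ W : Submodule R V, v ∈ W ∧ W.FG ∧ ∀ i, ∀ w ∈ W, f i w ∈ W) :
    ⨆ χ : ι → k, ⨅ i, Module.End.eigenspace ((f i).restrictScalars k) (χ i) = ⊤ := by
  classical
  set T := ⨆ χ : ι → k, ⨅ i, Module.End.eigenspace ((f i).restrictScalars k) (χ i) with hT
  rw [eq_top_iff]
  rintro v -
  obtain ⟨W, hvW, hW, hWst⟩ := hfin v
  suffices ∀ w ∈ W, w ∈ T from this v hvW
  by_contra hbad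
  have : IsNoetherian R W := isNoetherian_of_fg_of_noetherian W hW
  let S : Set (Submodule R V) := {B | B ≤ W ∧ ∃ A : Submodule R V, (∀ i, ∀ w ∈ A, f i w ∈ A) ∧
    (∀ i, ∀ w ∈ B, f i w ∈ B) ∧ A ⊔ B = W ∧ Disjoint A B ∧ ¬ ∀ w ∈ A, w ∈ T}
  have hS : (⊥ : Submodule R V) ∈ S :=
    ⟨bot_le, W, hWst, fun i w hw => by simp [(Submodule.mem_bot R).mp hw], by simp, disjoint_bot_right, hbad⟩
  obtain ⟨B', hB'mem, hB'max⟩ := set_has_maximal_iff_noetherian.mpr this
    {B' : Submodule R W | B'.map W.subtype ∈ S} ⟨⊥, by simpa using hS⟩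
  obtain ⟨hBW, A, hAst, hBst, hsup, hdis, hAT⟩ := hB'mem
  set B := B'.map W.subtype with hB
  obtain ⟨i, hi⟩ : ∃ i, ∀ μ : k, ¬ A ≤ eig (f i) μ := by
    by_contra h
    simp only [not_exists, not_forall, not_not] at h
    choose χ hχ using h
    exact hAT fun w hw => Submodule.mem_iSup_of_mem χ (Submodule.mem_iInf _ |>.mpr fun i =>
      mem_eigenspace_iff'.mpr (hχ i hw))
  have hle := le_iSup_eig (f i) (hdiag i) (hAst i)
  obtain ⟨μ, hμ⟩ : ∃ μ : k, A ⊓ eig (f i) μ ≠ ⊥ := by
    by_contra h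
    simp only [not_exists, not_not] at h
    simp only [h, iSup_bot, le_bot_iff] at hle
    exact hAT fun w hw => by rw [hle, Submodule.mem_bot] at hw; rw [hw]; exact zero_mem T
  set A₁ := A ⊓ eig (f i) μ with hA₁
  set A₂ := ⨆ (ν) (_ : ν ≠ μ), A ⊓ eig (f i) ν with hA₂
  have hEst : ∀ j (ν : k), ∀ w ∈ A ⊓ eig (f i) ν, f j w ∈ A ⊓ eig (f i) ν := fun j ν w hw =>
    ⟨hAst j w hw.1, mem_eig.mpr (by
      have := LinearMap.congr_fun (hcomm i j).eq w
      simp only [Module.End.mul_apply] at this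
      rw [this, mem_eig.mp hw.2, ← algebraMap_smul R, map_smul, algebraMap_smul])⟩
  have h2le : A₂ ≤ A := iSup₂_le fun ν _ => inf_le_left
  have hA₂st : ∀ j, ∀ w ∈ A₂, f j w ∈ A₂ := by
    intro j
    have : A₂ ≤ A₂.comap (f j) := iSup₂_le fun ν hν w hw =>
      Submodule.mem_iSup_of_mem ν (Submodule.mem_iSup_of_mem hν (hEst j ν w hw))
    exact this
  have hA12 : A₁ ⊔ A₂ = A := by
    refine le_antisymm (sup_le inf_le_left h2le) (hle.trans (iSup_le fun ν => ?_))
    rcases eq_or_ne ν μ with rfl | hν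
    · exact le_sup_left
    · exact le_sup_of_le_right (le_iSup₂_of_le ν hν le_rfl)
  have hd12 : Disjoint A₁ A₂ :=
    (disjoint_eig (f i) μ).mono inf_le_right (iSup₂_mono fun ν _ => inf_le_right)
  have hne₂ : A₂ ≠ ⊥ := fun h => hi μ (by rw [← hA12, h, sup_bot_eq]; exact inf_le_right)
  -- whichever half is bad, the other one can be moved to `B`
  have step : ∀ X Y : Submodule R V, X ⊔ Y = A → Disjoint X Y → (∀ j, ∀ w ∈ X, f j w ∈ X) →
      (∀ j, ∀ w ∈ Y, f j w ∈ Y) → Y ≠ ⊥ → ∀ w ∈ X, w ∈ T := by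
    intro X Y hXY hd hX hY hY0
    by_contra hbadX
    have hAW : A ≤ W := hsup ▸ le_sup_left
    have hYA : Y ≤ A := hXY ▸ le_sup_right
    have hmem : Y ⊔ B ∈ S := by
      refine ⟨sup_le (hYA.trans hAW) hBW, X, hX, fun j => ?_, by rw [← sup_assoc, hXY, hsup], ?_, hbadX⟩
      · have : Y ⊔ B ≤ (Y ⊔ B).comap (f j) :=
          sup_le (fun w hw => Submodule.mem_sup_left (hY j w hw)) fun w hw => Submodule.mem_sup_right (hBst j w hw)
        exact this
      · exact hd.disjoint_sup_right_of_disjoint_sup_left (by rw [hXY]; exact hdis)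
    have hlt : B' < (Y ⊔ B).comap W.subtype := by
      refine lt_of_le_of_ne ?_ fun e => hY0 ?_
      · exact Submodule.map_le_iff_le_comap.mp (le_sup_right : B ≤ Y ⊔ B)
      · have e' : B = Y ⊔ B := hB.trans ((congrArg (Submodule.map W.subtype) e).trans
          (by rw [Submodule.map_comap_subtype, inf_eq_right.mpr (sup_le (hYA.trans hAW) hBW)]))
        exact (hdis.mono_left hYA).eq_bot_of_le (e' ▸ le_sup_left)
    refine hB'max _ ?_ hlt
    change ((Y ⊔ B).comap W.subtype).map W.subtype ∈ S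
    rw [Submodule.map_comap_subtype, inf_eq_right.mpr (sup_le (hYA.trans hAW) hBW)]
    exact hmem
  have g1 := step A₁ A₂ hA12 hd12 (fun j => hEst j μ) hA₂st hne₂
  have g2 := step A₂ A₁ (by rw [sup_comm, hA12]) hd12.symm hA₂st (fun j => hEst j μ) hμ
  refine hAT fun w hw => ?_
  rw [← hA12] at hw
  obtain ⟨a, ha, b, hb, rfl⟩ := Submodule.mem_sup.mp hw
  exact add_mem (g1 a ha) (g2 b hb)

end Groth.Agent.H21Mad
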