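import Groth.Prelude.Def_W4c3madredgrpAct
import Groth.Agent.H21Mad.Diag
import Groth.Agent.H20Comod.Basic
import Mathlib.RingTheory.HopfAlgebra.Basic
import Mathlib.RingTheory.Bialgebra.Convolution

/-!
Right translation by points.
-/

open TensorProduct

namespace Groth.Agent.H21Mad

universe u v w

variable {k : Type u} [Field k] {A : Type v} [CommRing A] [Bialgebra k A] {R : Type w} [CommRing R] [Algebra k R]

theorem ptAct_one_tmul (g : A →ₐ[k] R) (a : A) :
    MadRed.ptAct k A R g (1 ⊗ₜ[k] a) = MadRed.translAux k A R g a := by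
  simp [MadRed.ptAct, ← Algebra.TensorProduct.one_def]

/-- `a ↦ Σ g(a₂) ⊗ a₁` on the tensor square -/
noncomputable def tr (g : A →ₐ[k] R) : A ⊗[k] A →ₐ[k] R ⊗[k] A :=
  (Algebra.TensorProduct.map g (AlgHom.id k A)).comp (Algebra.TensorProduct.comm k A A).toAlgHom

theorem tr_tmul (g : A →ₐ[k] R) (x y : A) : tr g (x ⊗ₜ y) = g y ⊗ₜ x := rfl

theorem translAux_eq (g : A →ₐ[k] R) (a : A) :
    MadRed.translAux k A R g a = tr g (Coalgebra.comul (R := k) a) := rfl

theorem ptAct_comp (g h : A →ₐ[k] R) (a : A) :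
    MadRed.ptAct k A R g (MadRed.ptAct k A R h (1 ⊗ₜ[k] a)) =
      MadRed.ptAct k A R (WithConv.toConv g * WithConv.toConv h).ofConv (1 ⊗ₜ[k] a) := by
  classical
  rw [ptAct_one_tmul, ptAct_one_tmul, translAux_eq, translAux_eq]
  let gh : A →ₐ[k] R := (WithConv.toConv g * WithConv.toConv h).ofConv
  have hgh : ∀ y, gh y = LinearMap.mul' k R (TensorProduct.map g.toLinearMap h.toLinearMap (Coalgebra.comul (R := k) y)) := by
    intro y
    simp only [gh, AlgHom.convMul_def, WithConv.ofConv_toConv, AlgHom.comp_apply, Bialgebra.comulAlgHom_apply]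
    generalize Coalgebra.comul (R := k) y = t
    induction t using TensorProduct.induction_on with
    | zero => simp
    | tmul p q => simp
    | add t t' e1 e2 => simp [e1, e2]
  let Ψ : A ⊗[k] (A ⊗[k] A) →ₗ[k] R ⊗[k] A :=
    (TensorProduct.comm k A R).toLinearMap ∘ₗ
      (LinearMap.mul' k R ∘ₗ TensorProduct.map g.toLinearMap h.toLinearMap).lTensor A
  have e1 : ∀ s : A ⊗[k] A, tr gh s = Ψ ((Coalgebra.comul (R := k)).lTensor A s) := by
    intro s
    induction s using TensorProduct.induction_on with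
    | zero => simp
    | tmul x y => simp [Ψ, tr_tmul, hgh]
    | add s s' e1 e2 => simp [e1, e2]
  have e2 : ∀ s : A ⊗[k] A, MadRed.ptAct k A R g (tr h s) =
      Ψ (TensorProduct.assoc k A A A ((Coalgebra.comul (R := k)).rTensor A s)) := by
    intro s
    induction s using TensorProduct.induction_on with
    | zero => simp
    | tmul x y =>
      rw [tr_tmul, show h y ⊗ₜ[k] x = h y • ((1 : R) ⊗ₜ[k] x) by simp [TensorProduct.smul_tmul'],
        map_smul, ptAct_one_tmul, translAux_eq, LinearMap.rTensor_tmul]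
      generalize Coalgebra.comul (R := k) x = t
      induction t using TensorProduct.induction_on with
      | zero => simp
      | tmul p q => simp [Ψ, tr_tmul, TensorProduct.smul_tmul', mul_comm]
      | add t t' h1 h2 => simp [h1, h2, TensorProduct.add_tmul]
    | add s s' h1 h2 => simp [h1, h2]
  rw [e2, Coalgebra.coassoc_apply, ← e1]

theorem commute_ptAct {g h : A →ₐ[k] R}
    (e : WithConv.toConv g * WithConv.toConv h = WithConv.toConv h * WithConv.toConv g) :
    Commute (MadRed.ptAct k A R g).toLinearMap (MadRed.ptAct k A R h).toLinearMap := by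
  refine LinearMap.ext fun x => ?_
  simp only [Module.End.mul_apply, AlgHom.toLinearMap_apply]
  induction x using TensorProduct.induction_on with
  | zero => simp
  | tmul r a =>
    rw [show r ⊗ₜ[k] a = r • ((1 : R) ⊗ₜ[k] a) by simp [TensorProduct.smul_tmul'], map_smul, map_smul,
      map_smul, map_smul, ptAct_comp, ptAct_comp, e]
  | add x y h1 h2 => simp [h1, h2]

/-- every element lies in a finite submodule stable under all translations -/
theorem exists_stable (v : R ⊗[k] A) : ∃ W : Submodule R (R ⊗[k] A), v ∈ W ∧ W.FG ∧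
    ∀ g : A →ₐ[k] R, ∀ w ∈ W, (MadRed.ptAct k A R g).toLinearMap w ∈ W := by
  classical
  obtain ⟨s, hs⟩ := TensorProduct.exists_finset (R := k) v
  obtain ⟨V, hVfin, hsV, hV⟩ := H20Comod.exists_finite_subcoalg k (A := A) (s.image Prod.snd).finite_toSet
  obtain ⟨t, ht⟩ := (Module.Finite.iff_fg.mp hVfin)
  let W : Submodule R (R ⊗[k] A) := Submodule.span R ((fun a => (1 : R) ⊗ₜ[k] a) '' (V : Set A))
  have h1 : ∀ (r : R), ∀ a ∈ V, r ⊗ₜ[k] a ∈ W := fun r a ha => by
    rw [show r ⊗ₜ[k] a = r • ((1 : R) ⊗ₜ[k] a) by simp [TensorProduct.smul_tmul']]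
    exact W.smul_mem _ (Submodule.subset_span ⟨a, ha, rfl⟩)
  refine ⟨W, ?_, ?_, fun g => ?_⟩
  · rw [hs]
    exact sum_mem fun x hx => h1 _ _ (hsV (Finset.mem_coe.mpr (Finset.mem_image_of_mem _ hx)))
  · refine ⟨t.image fun a => (1 : R) ⊗ₜ[k] a, le_antisymm ?_ ?_⟩ <;> rw [Submodule.span_le]
    · intro x hx
      obtain ⟨a, ha, rfl⟩ := Finset.mem_image.mp (Finset.mem_coe.mp hx)
      exact h1 _ a (ht ▸ Submodule.subset_span ha)
    · rintro _ ⟨a, ha, rfl⟩
      rw [SetLike.mem_coe, ← ht] at ha
      rw [SetLike.mem_coe]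
      induction ha using Submodule.span_induction with
      | mem x hx => exact Submodule.subset_span (Finset.mem_coe.mpr (Finset.mem_image_of_mem _ hx))
      | zero => simp
      | add x y _ _ e1 e2 => simp only [TensorProduct.tmul_add]; exact add_mem e1 e2
      | smul c x _ e1 => simp only [TensorProduct.tmul_smul]; rw [← algebraMap_smul R c]; exact Submodule.smul_mem _ _ e1
  · have : W ≤ W.comap (MadRed.ptAct k A R g).toLinearMap := by
      rw [Submodule.span_le]
      rintro _ ⟨a, ha, rfl⟩
      change MadRed.ptAct k A R g (1 ⊗ₜ[k] a) ∈ W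
      rw [ptAct_one_tmul, translAux_eq]
      obtain ⟨z, hz⟩ := hV a ha
      rw [← hz]
      clear hz
      induction z using TensorProduct.induction_on with
      | zero => simp
      | tmul p q => exact h1 _ _ p.2
      | add z z' e1 e2 => rw [map_add, map_add]; exact add_mem e1 e2
    exact this

end Groth.Agent.H21Mad
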